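import Groth.Agent.Lib.HopfTransfer.Basic
import Groth.Agent.Lib.Hopf.FaithfullyFlat
import Mathlib

open TensorProduct

universe u v w

namespace Groth.Agent.Lib.HopfTransfer

/-- Faithful flatness composes (any universes). -/
theorem ff_comp {R : Type*} {S : Type*} {T : Type*} [CommRing R] [CommRing S] [CommRing T]
    {f : R →+* S} {g : S →+* T} (hf : f.FaithfullyFlat) (hg : g.FaithfullyFlat) :
    (g.comp f).FaithfullyFlat := by
  algebraize [f, g, g.comp f]
  rw [← RingHom.algebraMap_toAlgebra (g.comp f), RingHom.faithfullyFlat_algebraMap_iff]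
  exact .trans R S T

/-- The range of a bialgebra map of Hopf algebras (target in the universe of the field) is a Hopf
subalgebra. -/
theorem isHopfSubalgebra_range {k : Type u} [Field k] {A : Type v} [CommRing A] [HopfAlgebra k A]
    {B : Type u} [CommRing B] [HopfAlgebra k B] (f : A →ₐc[k] B) :
    SGA3.IsHopfSubalgebra k B (f : A →ₐ[k] B).range := by
  constructor
  · rintro b ⟨a, rfl⟩
    refine ⟨TensorProduct.map (f : A →ₐ[k] B).rangeRestrict.toLinearMap
      (f : A →ₐ[k] B).rangeRestrict.toLinearMap (CoalgebraStruct.comul (R := k) a), ?_⟩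
    rw [← LinearMap.comp_apply, ← TensorProduct.map_comp]
    exact CoalgHomClass.map_comp_comul_apply f a
  · rintro b ⟨a, rfl⟩
    exact ⟨HopfAlgebraStruct.antipode (R := k) a,
      (Groth.Agent.Lib.Hopf.FaithfullyFlat.map_antipode f a).symm⟩

/-- A finitely generated commutative Hopf algebra is faithfully flat over the image of a map of Hopf
algebras into it. -/
theorem faithfullyFlat_range {k : Type u} {A : Type v} {B : Type w} [Field k] [CommRing A]
    [CommRing B] [HopfAlgebra k A] [HopfAlgebra k B] [Algebra.FiniteType k B] (f : A →ₐc[k] B) :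
    ((f : A →ₐ[k] B).range.val : (f : A →ₐ[k] B).range →+* B).FaithfullyFlat := by
  obtain ⟨n, q, hq⟩ := Algebra.FiniteType.iff_quotient_mvPolynomial''.1 (inferInstance : Algebra.FiniteType k B)
  haveI : Small.{u} B := small_of_surjective hq
  let e : Shrink.{u} B ≃ₐ[k] B := Shrink.algEquiv k B
  letI : HopfAlgebra k (Shrink.{u} B) := hopfAlgebra e
  let f' : A →ₐc[k] Shrink.{u} B := ((bialgEquiv e).symm : B →ₐc[k] Shrink.{u} B).comp f
  have hff : (algebraMap (f' : A →ₐ[k] Shrink.{u} B).range (Shrink.{u} B)).FaithfullyFlat :=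
    RingHom.faithfullyFlat_algebraMap_iff.2
      (Groth.Agent.Lib.Hopf.FaithfullyFlat.faithfullyFlat (isHopfSubalgebra_range f'))
  have hmem : ∀ b : (f : A →ₐ[k] B).range, e.symm (b : B) ∈ (f' : A →ₐ[k] Shrink.{u} B).range := by
    rintro ⟨b, a, rfl⟩; exact ⟨a, rfl⟩
  let r : (f : A →ₐ[k] B).range →ₐ[k] (f' : A →ₐ[k] Shrink.{u} B).range :=
    (e.symm.toAlgHom.comp (f : A →ₐ[k] B).range.val).codRestrict _ hmem
  have hr : Function.Bijective r := by
    refine ⟨fun x y hxy => Subtype.ext (e.symm.injective (congrArg Subtype.val hxy)), ?_⟩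
    rintro ⟨b, a, rfl⟩
    exact ⟨⟨f a, a, rfl⟩, rfl⟩
  have h1 : ((algebraMap (f' : A →ₐ[k] Shrink.{u} B).range (Shrink.{u} B)).comp r.toRingHom).FaithfullyFlat :=
    ff_comp (f := r.toRingHom) (RingHom.FaithfullyFlat.of_bijective hr) hff
  have h2 := ff_comp h1
    (RingHom.FaithfullyFlat.of_bijective (f := (e : Shrink.{u} B →+* B)) e.bijective)
  convert h2 using 1
  refine RingHom.ext fun b => ?_
  exact (e.apply_symm_apply (b : B)).symm

/-- Faithful flatness over an injective map of Hopf algebras. -/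
theorem faithfullyFlat_of_injective {k : Type u} {A : Type v} {B : Type w} [Field k] [CommRing A]
    [CommRing B] [HopfAlgebra k A] [HopfAlgebra k B] [Algebra.FiniteType k B] (f : A →ₐc[k] B)
    (hf : Function.Injective f) : (f : A →+* B).FaithfullyFlat := by
  have hb : Function.Bijective (f : A →ₐ[k] B).rangeRestrict :=
    ⟨fun x y hxy => hf (congrArg Subtype.val hxy), (f : A →ₐ[k] B).rangeRestrict_surjective⟩
  exact ff_comp (f := (f : A →ₐ[k] B).rangeRestrict.toRingHom)
    (RingHom.FaithfullyFlat.of_bijective hb) (faithfullyFlat_range f)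

end Groth.Agent.Lib.HopfTransfer
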