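import Mathlib

open TensorProduct

universe u v w

namespace Groth.Agent.Lib.HopfTransfer

variable {R : Type u} [CommRing R] {A : Type v} [CommRing A] {A' : Type w} [CommRing A'] [Algebra R A']

section bialg
variable [Bialgebra R A] (e : A' ≃ₐ[R] A)

/-- Transported comultiplication. -/
noncomputable def comul' : A' →ₐ[R] A' ⊗[R] A' :=
  (Algebra.TensorProduct.map e.symm.toAlgHom e.symm.toAlgHom).comp
    ((Bialgebra.comulAlgHom R A).comp e.toAlgHom)

/-- Transport of a bialgebra along an algebra equivalence. -/
@[reducible] noncomputable def bialgebra : Bialgebra R A' :=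
  Bialgebra.ofAlgHom (comul' e) ((Bialgebra.counitAlgHom R A).comp e.toAlgHom)
    (by
      refine AlgHom.ext fun a => ?_
      have h := Coalgebra.coassoc_apply (R := R) (e a)
      simp only [comul', AlgHom.comp_apply, AlgEquiv.coe_algHom]
      rw [Bialgebra.comulAlgHom_apply]
      generalize hy : Coalgebra.comul (R := R) (e a) = y at h ⊢
      clear hy
      have hL : ∀ z : A ⊗[R] A,
          Algebra.TensorProduct.assoc R R R A' A' A' (Algebra.TensorProduct.map
            ((Algebra.TensorProduct.map e.symm.toAlgHom e.symm.toAlgHom).comp
              ((Bialgebra.comulAlgHom R A).comp e.toAlgHom)) (AlgHom.id R A')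
            (Algebra.TensorProduct.map e.symm.toAlgHom e.symm.toAlgHom z)) =
          Algebra.TensorProduct.map e.symm.toAlgHom
              (Algebra.TensorProduct.map e.symm.toAlgHom e.symm.toAlgHom)
            (TensorProduct.assoc R A A A ((Coalgebra.comul (R := R) (A := A)).rTensor A z)) := by
        intro z
        induction z using TensorProduct.induction_on with
        | zero => simp
        | add p q hp hq => simp only [map_add, hp, hq]
        | tmul p q =>
          simp only [Algebra.TensorProduct.map_tmul, AlgHom.comp_apply, AlgEquiv.coe_algHom,
            AlgEquiv.apply_symm_apply, Bialgebra.comulAlgHom_apply, LinearMap.rTensor_tmul, AlgHom.id_apply]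
          generalize Coalgebra.comul (R := R) p = r
          induction r using TensorProduct.induction_on with
          | zero => simp
          | add s t hs ht => simp only [map_add, add_tmul, hs, ht]
          | tmul s t => simp
      have hR : ∀ z : A ⊗[R] A,
          Algebra.TensorProduct.map (AlgHom.id R A')
            ((Algebra.TensorProduct.map e.symm.toAlgHom e.symm.toAlgHom).comp
              ((Bialgebra.comulAlgHom R A).comp e.toAlgHom))
            (Algebra.TensorProduct.map e.symm.toAlgHom e.symm.toAlgHom z) =
          Algebra.TensorProduct.map e.symm.toAlgHom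
              (Algebra.TensorProduct.map e.symm.toAlgHom e.symm.toAlgHom)
            ((Coalgebra.comul (R := R) (A := A)).lTensor A z) := by
        intro z
        induction z using TensorProduct.induction_on with
        | zero => simp
        | add p q hp hq => simp only [map_add, hp, hq]
        | tmul p q =>
          simp only [Algebra.TensorProduct.map_tmul, AlgHom.comp_apply, AlgEquiv.coe_algHom,
            AlgEquiv.apply_symm_apply, Bialgebra.comulAlgHom_apply, LinearMap.lTensor_tmul, AlgHom.id_apply]
      rw [hL, hR, h])
    (by
      refine AlgHom.ext fun a => ?_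
      have h := Coalgebra.rTensor_counit_comul (R := R) (e a)
      simp only [comul', AlgHom.comp_apply, AlgEquiv.coe_algHom]
      rw [Bialgebra.comulAlgHom_apply]
      have hL : ∀ z : A ⊗[R] A,
          Algebra.TensorProduct.map ((Bialgebra.counitAlgHom R A).comp e.toAlgHom) (AlgHom.id R A')
            (Algebra.TensorProduct.map e.symm.toAlgHom e.symm.toAlgHom z) =
          (e.symm.toLinearMap).lTensor R ((Coalgebra.counit (R := R) (A := A)).rTensor A z) := by
        intro z
        induction z using TensorProduct.induction_on with
        | zero => simp
        | add p q hp hq => simp only [map_add, hp, hq]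
        | tmul p q => simp
      rw [hL, h]
      simp)
    (by
      refine AlgHom.ext fun a => ?_
      have h := Coalgebra.lTensor_counit_comul (R := R) (e a)
      simp only [comul', AlgHom.comp_apply, AlgEquiv.coe_algHom]
      rw [Bialgebra.comulAlgHom_apply]
      have hL : ∀ z : A ⊗[R] A,
          Algebra.TensorProduct.map (AlgHom.id R A') ((Bialgebra.counitAlgHom R A).comp e.toAlgHom)
            (Algebra.TensorProduct.map e.symm.toAlgHom e.symm.toAlgHom z) =
          (e.symm.toLinearMap).rTensor R ((Coalgebra.counit (R := R) (A := A)).lTensor A z) := by
        intro z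
        induction z using TensorProduct.induction_on with
        | zero => simp
        | add p q hp hq => simp only [map_add, hp, hq]
        | tmul p q => simp
      rw [hL, h]
      simp)

/-- The transported equivalence as a bialgebra equivalence. -/
noncomputable def bialgEquiv :
    letI := bialgebra e
    A' ≃ₐc[R] A :=
  letI := bialgebra e
  BialgEquiv.ofAlgEquiv e rfl (AlgHom.ext fun a => by
    show Algebra.TensorProduct.map e.toAlgHom e.toAlgHom (comul' e a) = _
    simp only [comul', AlgHom.comp_apply]
    have : ∀ z : A ⊗[R] A, Algebra.TensorProduct.map e.toAlgHom e.toAlgHom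
        (Algebra.TensorProduct.map e.symm.toAlgHom e.symm.toAlgHom z) = z := by
      intro z
      induction z using TensorProduct.induction_on with
      | zero => simp
      | add p q hp hq => simp only [map_add, hp, hq]
      | tmul p q => simp
    rw [this]; first | done | rfl)

theorem bialgEquiv_apply (a : A') :
    letI := bialgebra e
    bialgEquiv e a = e a := rfl

end bialg

/-- Transport of a Hopf algebra along an algebra equivalence. -/
@[reducible] noncomputable def hopfAlgebra [HopfAlgebra R A] (e : A' ≃ₐ[R] A) : HopfAlgebra R A' :=
  letI := bialgebra e
  letI : HopfAlgebraStruct R A' :=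
    { antipode := e.symm.toLinearMap ∘ₗ (HopfAlgebraStruct.antipode R (A := A)) ∘ₗ e.toLinearMap }
  HopfAlgebra.ofSurjective ((bialgEquiv e).symm : A →ₐc[R] A') (bialgEquiv e).symm.surjective
    (LinearMap.ext fun a => by
      show e.symm (HopfAlgebraStruct.antipode R (e (e.symm a))) = e.symm (HopfAlgebraStruct.antipode R a)
      rw [AlgEquiv.apply_symm_apply])

end Groth.Agent.Lib.HopfTransfer
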